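import Groth.Agent.HilbSum.Sum
import Groth.Agent.ClosedRep.Free
import Groth.Agent.ClosedRep.FinLocFree
import Groth.Agent.GrpField.Fibres
import Groth.Agent.FittLib.SmoothCrit
import Groth.Agent.LocalDimBC.Smooth
import Groth.Prelude.Def_AgPol
import Mathlib

/-! # The locus where a relative divisor of an elliptic curve is a subgroup -/

set_option autoImplicit false
set_option linter.style.haveILetI false
set_option backward.isDefEq.respectTransparency false

universe u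

open CategoryTheory CategoryTheory.Limits AlgebraicGeometry TopologicalSpace MonoidalCategory CartesianMonoidalCategory
open MonObj

namespace Groth.Agent.SubgrpLocus

theorem smoothOfRelativeDimension_of_fibreDimAt {X S : Scheme.{u}} (p : X ⟶ S) [Smooth p] (n : ℕ)
    (h : ∀ x, FlatMor.fibreDimAt p x = n) : SmoothOfRelativeDimension n p := by
  refine ⟨fun x => ?_⟩
  obtain ⟨V, hV, U, hU, hxU, e, hstd⟩ := Smooth.exists_isStandardSmooth p x
  refine ⟨V, hV, U, hU, hxU, e, ?_⟩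
  algebraize [(p.appLE V U e).hom]
  obtain ⟨κ, σ, hσ, hκ, ⟨P⟩⟩ := ‹Algebra.IsStandardSmooth Γ(S, V) Γ(X, U)›
  haveI : Algebra.IsStandardSmoothOfRelativeDimension P.dimension Γ(S, V) Γ(X, U) := ⟨κ, σ, hσ, hκ, P, rfl⟩
  suffices hd : P.dimension = n by
    rw [← hd]
    exact ‹Algebra.IsStandardSmoothOfRelativeDimension P.dimension Γ(S, V) Γ(X, U)›
  obtain ⟨z, hz⟩ : x ∈ Set.range hU.fromSpec := hU.range_fromSpec.ge hxU
  have h1 := LocalDimBC.fibreDimAt_Spec_of_isStandardSmooth P.dimension (R := Γ(S, V)) (A := Γ(X, U)) z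
  have h2 : FlatMor.fibreDimAt (Spec.map (CommRingCat.ofHom (algebraMap Γ(S, V) Γ(X, U)))) z =
      FlatMor.fibreDimAt p x := by
    rw [← hz, ← LocalDimBC.fibreDimAt_openImmersion_comp hU.fromSpec p z,
      ← IsAffineOpen.SpecMap_appLE_fromSpec p hV hU e, ← LocalDimBC.fibreDimAt_comp_openImmersion]
    rfl
  rw [h2, h] at h1
  exact_mod_cast h1.symm

theorem smoothOfRelativeDimension_absch {S : Scheme.{u}} (E : Over S) [GrpObj E] {g : ℕ}
    (hE : AgPol.IsAbSch E g) : SmoothOfRelativeDimension g E.hom := by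
  obtain ⟨hs, hp, hc, hd⟩ := hE
  haveI := hs
  haveI := hc
  have hconn : ∀ s : S, _root_.IsConnected (E.hom.base ⁻¹' {s}) := fun s => by
    rw [← E.hom.range_fiberι s]
    exact isConnected_range (E.hom.fiberι s).continuous
  haveI := GrpField.geometricallyIrreducible_of_connected_fibres E hconn
  refine smoothOfRelativeDimension_of_fibreDimAt E.hom g fun x => FittLib.fibreDimAt_eq_of_components E.hom x ?_
  haveI : IrreducibleSpace ↥(E.hom.fiber (E.hom x)) :=
    GeometricallyIrreducible.geometrically_irreducibleSpace (f := E.hom)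
      (S.fromSpecResidueField (E.hom x)) _ _ (IsPullback.of_hasPullback _ _)
  intro T hT
  rw [irreducibleComponents_eq_singleton, Set.mem_singleton_iff] at hT
  subst hT
  rw [IsHomeomorph.topologicalKrullDim_eq _ (Homeomorph.Set.univ _).isHomeomorph]
  exact hd _

variable {S : Scheme.{u}} (E : Over S)

theorem factors_iff {Y T : Scheme.{u}} (I : Y.IdealSheafData) (g : T ⟶ Y) :
    (∃ t : T ⟶ I.subscheme, t ≫ I.subschemeι = g) ↔ I.comap g = ⊥ := by
  rw [ClosedRep.comap_eq_bot_iff]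
  refine ⟨?_, fun le => ⟨IsClosedImmersion.lift I.subschemeι g (I.ker_subschemeι.trans_le le),
    IsClosedImmersion.lift_fac _ _ _⟩⟩
  rintro ⟨z, rfl⟩
  exact le_trans I.ker_subschemeι.ge (z.le_ker_comp I.subschemeι)

theorem exists_locus [GrpObj E] (𝓓 : E.left.IdealSheafData) (hp : Mor2.IsFinLocFree (𝓓.subschemeι ≫ E.hom)) :
    ∃ 𝓩 : S.IdealSheafData, ∀ (T : Scheme.{u}) (g : T ⟶ S),
      (∃ t : T ⟶ 𝓩.subscheme, t ≫ 𝓩.subschemeι = g) ↔
        ∀ (T' : Scheme.{u}) (a : T' ⟶ T), ∃ H : Subgroup (Over.mk (a ≫ g) ⟶ E),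
          (H : Set (Over.mk (a ≫ g) ⟶ E)) =
            {x | ∃ d : T' ⟶ 𝓓.subscheme, d ≫ 𝓓.subschemeι = x.left} := by
  obtain ⟨h1, h2, h3⟩ := hp
  let p : 𝓓.subscheme ⟶ S := 𝓓.subschemeι ≫ E.hom
  haveI : IsFinite p := h1
  haveI : Flat p := h2
  haveI : LocallyOfFinitePresentation p := h3
  -- the unit
  let e₁ : Over.mk (𝟙 S) ⟶ E := 1
  let J₁ : S.IdealSheafData := 𝓓.comap e₁.left
  -- pairs of points
  let p₂ : pullback p p ⟶ S := pullback.fst p p ≫ p
  haveI : IsFinite p₂ := inferInstance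
  haveI : Flat p₂ := inferInstance
  haveI : LocallyOfFinitePresentation p₂ := inferInstance
  let u₁ : Over.mk p₂ ⟶ E := Over.homMk (pullback.fst p p ≫ 𝓓.subschemeι) (Category.assoc _ _ _)
  let u₂ : Over.mk p₂ ⟶ E := Over.homMk (pullback.snd p p ≫ 𝓓.subschemeι)
    ((Category.assoc _ _ _).trans pullback.condition.symm)
  let dv : Over.mk p₂ ⟶ E := u₁ / u₂
  obtain ⟨J₂, hJ₂⟩ := ClosedRep.exists_reps_zeroOn p₂ (𝟙 S) ((𝓓.comap dv.left).comap (pullback.fst p₂ (𝟙 S)))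
    (ClosedRep.isLocFree_of_finLocFree p₂)
  have hJ₂' : ∀ {T : Scheme.{u}} (h : T ⟶ S),
      (𝓓.comap dv.left).comap (pullback.fst p₂ h) = ⊥ ↔ J₂.comap h = ⊥ := fun {T} h => by
    rw [← hJ₂ h]
    change _ ↔ ClosedRep.ZeroOn p₂ (𝟙 S) _ h
    rw [ClosedRep.zeroOn_iff p₂ (𝟙 S) _ h h (Category.comp_id _)]
    simp only [← Scheme.IdealSheafData.comap_comp, pullback.lift_fst, pullback.lift_fst_assoc, Category.assoc]
  refine ⟨J₁ ⊔ J₂, fun T g => ?_⟩
  rw [factors_iff, Scheme.IdealSheafData.comap_sup, sup_eq_bot_iff]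
  constructor
  · rintro ⟨g1, g2⟩ T' a
    let h : T' ⟶ S := a ≫ g
    have k1 : J₁.comap h = ⊥ := by
      rw [Scheme.IdealSheafData.comap_comp, g1, ClosedRep.bot_comap]
    have k2 : J₂.comap h = ⊥ := by
      rw [Scheme.IdealSheafData.comap_comp, g2, ClosedRep.bot_comap]
    have hone : (1 : Over.mk h ⟶ E) ∈ {x : Over.mk h ⟶ E | ∃ d : T' ⟶ 𝓓.subscheme, d ≫ 𝓓.subschemeι = x.left} := by
      show ∃ d, _
      rw [factors_iff, show (1 : Over.mk h ⟶ E) = (Over.homMk h : Over.mk h ⟶ Over.mk (𝟙 S)) ≫ e₁ from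
        (MonObj.comp_one _).symm, Over.comp_left, Scheme.IdealSheafData.comap_comp]
      exact k1
    refine ⟨Subgroup.ofDiv _ ⟨1, hone⟩ ?_, rfl⟩
    rintro x ⟨dx, hdx⟩ y ⟨dy, hdy⟩
    have hc : dx ≫ p = dy ≫ p := by
      simp only [p, ← Category.assoc, hdx, hdy]
      exact (Over.w x).trans (Over.w y).symm
    let z : Over.mk h ⟶ Over.mk p₂ := Over.homMk (pullback.lift dx dy hc) (by
      show pullback.lift dx dy hc ≫ pullback.fst p p ≫ p = h
      rw [pullback.lift_fst_assoc]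
      simp only [p, ← Category.assoc, hdx]
      exact Over.w x)
    have hzx : z ≫ u₁ = x := by
      ext
      show pullback.lift dx dy hc ≫ pullback.fst p p ≫ 𝓓.subschemeι = _
      rw [pullback.lift_fst_assoc, hdx]
    have hzy : z ≫ u₂ = y := by
      ext
      show pullback.lift dx dy hc ≫ pullback.snd p p ≫ 𝓓.subschemeι = _
      rw [pullback.lift_snd_assoc, hdy]
    have hz : z ≫ dv = x * y⁻¹ := by rw [GrpObj.comp_div, hzx, hzy, div_eq_mul_inv]
    show ∃ d, _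
    rw [factors_iff, ← hz, Over.comp_left, Scheme.IdealSheafData.comap_comp,
      show z.left = pullback.lift z.left (𝟙 T') ((Over.w z).trans (Category.id_comp h).symm) ≫ pullback.fst p₂ h from
        (pullback.lift_fst _ _ _).symm,
      Scheme.IdealSheafData.comap_comp, (hJ₂' h).2 k2, ClosedRep.bot_comap]
  · intro H
    constructor
    · obtain ⟨K, hK⟩ := H T (𝟙 T)
      have h1 := (Set.ext_iff.1 hK 1).1 K.one_mem
      simp only [Set.mem_setOf_eq, factors_iff] at h1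
      rw [show (1 : Over.mk (𝟙 T ≫ g) ⟶ E) = (Over.homMk g (by simp) : Over.mk (𝟙 T ≫ g) ⟶ Over.mk (𝟙 S)) ≫ e₁ from
        (MonObj.comp_one _).symm, Over.comp_left, Scheme.IdealSheafData.comap_comp] at h1
      exact h1
    · rw [← hJ₂' g]
      obtain ⟨K, hK⟩ := H (pullback p₂ g) (pullback.snd p₂ g)
      let z : Over.mk (pullback.snd p₂ g ≫ g) ⟶ Over.mk p₂ := Over.homMk (pullback.fst p₂ g) pullback.condition
      have m1 : z ≫ u₁ ∈ K := (Set.ext_iff.1 hK _).2 ⟨pullback.fst p₂ g ≫ pullback.fst p p, Category.assoc _ _ _⟩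
      have m2 : z ≫ u₂ ∈ K := (Set.ext_iff.1 hK _).2 ⟨pullback.fst p₂ g ≫ pullback.snd p p, Category.assoc _ _ _⟩
      have h1 := (Set.ext_iff.1 hK _).1 (K.div_mem m1 m2)
      simp only [Set.mem_setOf_eq, factors_iff] at h1
      rw [← GrpObj.comp_div, Over.comp_left, Scheme.IdealSheafData.comap_comp] at h1
      exact h1

theorem main [GrpObj E] (hE : AgPol.IsAbSch E 1) (𝓓 : E.left.IdealSheafData)
    (hD : BlowUp.IsEffCartierIdeal 𝓓) [Flat (𝓓.subschemeι ≫ E.hom)] :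
    ∃ 𝓩 : S.IdealSheafData, ∀ (T : Scheme.{u}) (g : T ⟶ S),
      (∃ t : T ⟶ 𝓩.subscheme, t ≫ 𝓩.subschemeι = g) ↔
        ∀ (T' : Scheme.{u}) (a : T' ⟶ T), ∃ H : Subgroup (Over.mk (a ≫ g) ⟶ E),
          (H : Set (Over.mk (a ≫ g) ⟶ E)) =
            {x | ∃ d : T' ⟶ 𝓓.subscheme, d ≫ 𝓓.subschemeι = x.left} := by
  haveI := smoothOfRelativeDimension_absch E hE
  haveI := hE.proper
  obtain ⟨hq, hfl, hfp⟩ := (HilbSum.iff_lqf E.hom 𝓓).1 ⟨hD, ‹_›⟩
  haveI := hq
  exact exists_locus E 𝓓 ⟨IsFinite.of_isProper_of_locallyQuasiFinite _, hfl, hfp⟩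

end Groth.Agent.SubgrpLocus
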